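import Cfsg.Agent.Components.FStar
import Mathlib.GroupTheory.Perm.Basic

/-!
# Groups whose generalised Fitting subgroup is quasisimple
-/

namespace CfsgLib.AltBlocks

variable {H : Type*} [Group H]

theorem isComponent_fstar (hF : Cfsg.IsQuasisimple (Cfsg.generalizedFittingSubgroup H)) :
    Cfsg.IsComponent (Cfsg.generalizedFittingSubgroup H) :=
  have : (Cfsg.generalizedFittingSubgroup H).Normal := Subgroup.sup_normal _ _
  ⟨this.isSubnormal, hF⟩

variable [Finite H]

/-- Solvable subnormal subgroups are central in the quasisimple `F*`. -/
theorem le_center_of_solvable (hF : Cfsg.IsQuasisimple (Cfsg.generalizedFittingSubgroup H))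
    {S : Subgroup H} (hS : S.IsSubnormal) (hs : Group.IsSolvable S) :
    S ≤ Cfsg.generalizedFittingSubgroup H ⊓
      Subgroup.centralizer (Cfsg.generalizedFittingSubgroup H : Set H) := by
  set K := Cfsg.generalizedFittingSubgroup H with hK
  have hR : Components.solvRadical H ≤ Subgroup.centralizer (K : Set H) := by
    have hn : (Components.solvRadical H).Normal := Subgroup.sSup_normal _ fun _ h => h.1
    rw [← Subgroup.commutator_eq_bot_iff_le_centralizer, Subgroup.commutator_comm]
    exact Components.IsComponent.commutator_eq_bot_of_isSolvable (isComponent_fstar hF)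
      Components.isSolvable_solvRadical (by rw [Subgroup.normalizer_eq_top]; exact le_top)
  have hSR := (Components.le_solvRadical_of_isSubnormal hS hs).trans hR
  exact le_inf (hSR.trans Components.centralizer_generalizedFitting_le_self) hSR

/-- `F*` is the only component. -/
theorem component_eq (hF : Cfsg.IsQuasisimple (Cfsg.generalizedFittingSubgroup H))
    {L : Subgroup H} (hL : Cfsg.IsComponent L) : L = Cfsg.generalizedFittingSubgroup H :=
  Components.IsComponent.eq_of_le hL (isComponent_fstar hF)
    ((Components.IsComponent.le_layer hL).trans Components.layer_le_generalizedFitting)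

omit [Finite H] in
theorem isComponent_of_simple {L : Subgroup H} (hL : L.IsSubnormal) (hs : IsSimpleGroup L)
    (hna : ¬ IsMulCommutative L) : Cfsg.IsComponent L := by
  have hperf : commutator L = ⊤ := by
    rcases (inferInstance : (commutator L).Normal).eq_bot_or_eq_top with h | h
    · exfalso
      refine hna ⟨⟨fun a b => ?_⟩⟩
      have := Subgroup.commutator_mem_commutator (Subgroup.mem_top a) (Subgroup.mem_top b)
      rw [← commutator_def, h, Subgroup.mem_bot, commutatorElement_eq_one_iff_commute] at this
      exact this
    · exact h
  have hcen : Subgroup.center L = ⊥ := by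
    rcases (inferInstance : (Subgroup.center L).Normal).eq_bot_or_eq_top with h | h
    · exact h
    · exact absurd (Subgroup.center_eq_top_iff.1 h) hna
  refine ⟨hL, ⟨hperf⟩, ?_⟩
  let e : (L ⧸ Subgroup.center L) ≃* L :=
    (QuotientGroup.quotientMulEquivOfEq hcen).trans QuotientGroup.quotientBot
  exact e.isSimpleGroup

omit [Finite H] in
/-- A perfect group has only trivial homomorphisms with commutative image. -/
theorem map_eq_one_of_perfect {A : Type*} [Group A] {K : Subgroup H} (hK : ⁅K, K⁆ = K) (f : K →* A)
    (hf : ∀ a b : K, Commute (f a) (f b)) : ∀ a : K, f a = 1 := by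
  have h : (⊤ : Subgroup K) ≤ f.ker := by
    have h1 : commutator K ≤ f.ker := by
      rw [commutator_eq_closure, Subgroup.closure_le]
      rintro _ ⟨a, b, rfl⟩
      rw [SetLike.mem_coe, MonoidHom.mem_ker, map_commutatorElement,
        commutatorElement_eq_one_iff_commute]
      exact hf a b
    have h2 : commutator K = ⊤ := (Subgroup.isPerfect_iff.mpr hK).commutator_eq_top
    rwa [h2] at h1
  exact fun a => h (Subgroup.mem_top a)

end CfsgLib.AltBlocks
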