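import Mathlib.GroupTheory.SpecificGroups.Alternating.Simple
import Mathlib.GroupTheory.IsSubnormal
import Mathlib.GroupTheory.Solvable
import Mathlib.Tactic.Group

/-!
# The blocks of the 3-cycles of a permutation group

`Full H Δ`: `H` contains every 3-cycle supported in `Δ`; `altOn Δ` the group they generate.
`exists_block`: every 3-cycle of `H` lies in a block `Δ` which all other 3-cycles of `H` either lie in or avoid.
-/

namespace CfsgLib.AltBlocks

open Equiv Equiv.Perm

variable {α : Type*} [Fintype α] [DecidableEq α]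

/-- `H` contains all 3-cycles supported in `Δ`. -/
def Full (H : Subgroup (Perm α)) (Δ : Finset α) : Prop :=
  ∀ c : Perm α, IsThreeCycle c → c.support ⊆ Δ → c ∈ H

theorem eq_of_apply_eq {c d : Perm α} (hc : IsThreeCycle c) (hd : IsThreeCycle d) {a : α}
    (ha : a ∈ c.support) (ha' : a ∈ d.support) (h1 : d a = c a) (h2 : d (d a) = c (c a)) : d = c := by
  rw [hd.eq_swap_mul_swap_iff_mem_support.2 ha', hc.eq_swap_mul_swap_iff_mem_support.2 ha, h2, h1]

theorem apply_third {c : Perm α} (hc : IsThreeCycle c) {a : α} : c (c (c a)) = a := by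
  have h := congrArg (fun g : Perm α => g a) (pow_orderOf_eq_one c)
  rw [hc.orderOf] at h
  simpa [pow_succ] using h

theorem mem_three {c : Perm α} (hc : IsThreeCycle c) {a z : α} (ha : a ∈ c.support) (hz : z ∈ c.support) :
    z = a ∨ z = c a ∨ z = c (c a) := by
  rw [hc.support_eq_iff_mem_support.2 ha] at hz
  simpa using hz

theorem distinct_of_mem {c : Perm α} (hc : IsThreeCycle c) {a : α} (ha : a ∈ c.support) :
    a ≠ c a ∧ a ≠ c (c a) ∧ c a ≠ c (c a) := by
  have := hc.nodup_iff_mem_support.2 ha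
  simp only [List.nodup_cons, List.mem_cons, List.not_mem_nil, or_false, not_or] at this
  exact ⟨this.1.1, this.1.2, this.2.1⟩

/-- The 3-cycle `a → b → c → a`. -/
theorem exists_threeCycle {Δ : Finset α} {a b c : α} (ha : a ∈ Δ) (hb : b ∈ Δ) (hc : c ∈ Δ)
    (hab : a ≠ b) (hac : a ≠ c) (hbc : b ≠ c) :
    ∃ g : Perm α, IsThreeCycle g ∧ g.support ⊆ Δ ∧ g a = b ∧ g b = c ∧ g c = a := by
  refine ⟨swap a c * swap a b, isThreeCycle_swap_mul_swap_same hac hab (Ne.symm hbc), ?_, ?_, ?_, ?_⟩
  · intro z hz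
    rw [mem_support] at hz
    by_contra hn
    apply hz
    have h1 : z ≠ a := fun h => hn (h ▸ ha)
    have h2 : z ≠ b := fun h => hn (h ▸ hb)
    have h3 : z ≠ c := fun h => hn (h ▸ hc)
    simp [swap_apply_of_ne_of_ne h1 h2, swap_apply_of_ne_of_ne h1 h3]
  · simp [swap_apply_of_ne_of_ne (Ne.symm hab) hbc]
  · simp
  · simp [swap_apply_of_ne_of_ne (Ne.symm hac) (Ne.symm hbc)]

variable {H : Subgroup (Perm α)}

theorem isThreeCycle_conj {c : Perm α} (hc : IsThreeCycle c) (g : Perm α) :
    IsThreeCycle (g * c * g⁻¹) := by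
  rw [IsThreeCycle, cycleType_conj]; exact hc

theorem apply_of_fix {g : Perm α} {Δ : Finset α} (hg : g.support ⊆ Δ) {z : α} (hz : z ∉ Δ) : g z = z :=
  notMem_support.1 fun h => hz (hg h)

/-- Move an ordered pair of `Δ` to an unordered pair. -/
theorem exists_pair_map {Δ : Finset α} (hΔ : Full H Δ) (h3 : 3 ≤ Δ.card) {a b u v : α}
    (ha : a ∈ Δ) (hb : b ∈ Δ) (hab : a ≠ b) (hu : u ∈ Δ) (hv : v ∈ Δ) (huv : u ≠ v) :
    ∃ g ∈ H, g.support ⊆ Δ ∧ ((g a = u ∧ g b = v) ∨ (g a = v ∧ g b = u)) := by
  obtain ⟨g, hg, hgs, hga⟩ : ∃ g ∈ H, g.support ⊆ Δ ∧ g a = u := by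
    by_cases h : a = u
    · exact ⟨1, H.one_mem, by simp, by simpa using h⟩
    · obtain ⟨w, hw⟩ : ((Δ.erase a).erase u).Nonempty := by
        rw [← Finset.card_pos]
        have := Finset.pred_card_le_card_erase (s := Δ.erase a) (a := u)
        have := Finset.pred_card_le_card_erase (s := Δ) (a := a)
        omega
      simp only [Finset.mem_erase] at hw
      obtain ⟨g, hg, hgs, h1, -, -⟩ := exists_threeCycle ha hu hw.2.2 h (Ne.symm hw.2.1) (Ne.symm hw.1)
      exact ⟨g, hΔ g hg hgs, hgs, h1⟩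
  have hb' : g b ∈ Δ := by
    by_cases h : b ∈ g.support
    · exact hgs (apply_mem_support.2 h)
    · rwa [notMem_support.1 h]
  by_cases hbv : g b = v
  · exact ⟨g, hg, hgs, Or.inl ⟨hga, hbv⟩⟩
  have hbu : g b ≠ u := fun h => hab (g.injective (hga.trans h.symm))
  obtain ⟨k, hk, hks, k1, k2, k3⟩ := exists_threeCycle hu hv hb' huv (Ne.symm hbu) (Ne.symm hbv)
  refine ⟨k * g, H.mul_mem (hΔ k hk hks) hg, ?_, Or.inr ⟨by rw [Perm.mul_apply, hga, k1], by rw [Perm.mul_apply, k3]⟩⟩
  intro z hz
  by_contra hn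
  rw [mem_support, Perm.mul_apply, apply_of_fix hgs hn, apply_of_fix hks hn] at hz
  exact hz rfl

/-- Adding one point. -/
theorem full_insert {Δ : Finset α} (hΔ : Full H Δ) (h3 : 3 ≤ Δ.card) {c : Perm α} (hc : IsThreeCycle c)
    (hcH : c ∈ H) {x : α} (hx : x ∈ c.support) (hx1 : c x ∈ Δ) (hx2 : c (c x) ∈ Δ) :
    Full H (insert x Δ) := by
  by_cases hxΔ : x ∈ Δ
  · rwa [Finset.insert_eq_of_mem hxΔ]
  intro d hd hds
  by_cases hxd : x ∈ d.support
  swap
  · refine hΔ d hd fun z hz => ?_
    rcases Finset.mem_insert.1 (hds hz) with rfl | h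
    · exact absurd hz hxd
    · exact h
  obtain ⟨dx1, dx2, dx3⟩ := distinct_of_mem hd hxd
  have hu : d x ∈ Δ := (Finset.mem_insert.1 (hds (apply_mem_support.2 hxd))).resolve_left (Ne.symm dx1)
  have hv : d (d x) ∈ Δ :=
    (Finset.mem_insert.1 (hds (apply_mem_support.2 (apply_mem_support.2 hxd)))).resolve_left (Ne.symm dx2)
  obtain ⟨g, hg, hgs, hcase⟩ := exists_pair_map hΔ h3 hx1 hx2 (distinct_of_mem hc hx).2.2 hu hv dx3
  have hgx : g x = x := apply_of_fix hgs hxΔ
  have hginv : g⁻¹ x = x := by rw [Perm.inv_eq_iff_eq, hgx]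
  set e := g * c * g⁻¹ with he
  have heH : e ∈ H := H.mul_mem (H.mul_mem hg hcH) (H.inv_mem hg)
  have he3 := isThreeCycle_conj hc g
  have e1 : e x = g (c x) := by simp only [he, Perm.mul_apply, hginv]
  have e2 : e (e x) = g (c (c x)) := by
    simp only [he, Perm.mul_apply, hginv]
    rw [show g⁻¹ (g (c x)) = c x from Perm.inv_eq_iff_eq.2 rfl]
  have hxe : x ∈ e.support := by
    rw [mem_support, e1]
    intro h
    rcases hcase with h' | h'
    · exact dx1 (h.symm.trans h'.1)
    · exact dx2 (h.symm.trans h'.1)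
  rcases hcase with ⟨h1, h2⟩ | ⟨h1, h2⟩
  · rwa [eq_of_apply_eq he3 hd hxe hxd (by rw [e1, h1]) (by rw [e2, h2])]
  · have hdinv : d = e⁻¹ := by
      refine eq_of_apply_eq he3.inv hd (by rwa [support_inv]) hxd ?_ ?_
      · rw [eq_comm, Perm.inv_eq_iff_eq]
        have := apply_third he3 (a := x)
        rw [e2, h2] at this
        exact this.symm
      · rw [eq_comm, Perm.inv_eq_iff_eq]
        have := apply_third he3 (a := x)
        rw [e2, h2] at this
        rw [eq_comm, Perm.inv_eq_iff_eq.2 this.symm, ← h1, ← e1]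
        exact e2.trans h2
    rw [hdinv]; exact H.inv_mem heH

/-- Absorbing a 3-cycle meeting `Δ`. -/
theorem full_union {Δ : Finset α} (hΔ : Full H Δ) (h3 : 3 ≤ Δ.card) {c : Perm α} (hc : IsThreeCycle c)
    (hcH : c ∈ H) (hne : ¬ Disjoint c.support Δ) : Full H (Δ ∪ c.support) := by
  obtain ⟨a, ha, haΔ⟩ := Finset.not_disjoint_iff.1 hne
  obtain ⟨d1, d2, d3⟩ := distinct_of_mem hc ha
  have hsupp := hc.support_eq_iff_mem_support.2 ha
  have hy : c (c a) ∈ c.support := apply_mem_support.2 (apply_mem_support.2 ha)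
  have hx : c a ∈ c.support := apply_mem_support.2 ha
  -- it suffices to have two points of `supp c` in a full set
  have two : ∀ Γ : Finset α, Full H Γ → Δ ⊆ Γ → a ∈ Γ → (c a ∈ Γ ∨ c (c a) ∈ Γ) → Full H (Δ ∪ c.support) := by
    intro Γ hΓ hsub haΓ hor d hd hds
    have h3' : 3 ≤ Γ.card := h3.trans (Finset.card_le_card hsub)
    rcases hor with h | h
    · refine full_insert hΓ h3' hc hcH hy (by rw [apply_third hc]; exact haΓ)
        (by rw [apply_third hc]; exact h) d hd (hds.trans ?_)
      intro z hz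
      rcases Finset.mem_union.1 hz with hz | hz
      · exact Finset.mem_insert_of_mem (hsub hz)
      · rcases mem_three hc ha hz with rfl | rfl | rfl <;> simp [haΓ, h]
    · refine full_insert hΓ h3' hc hcH hx h (by rw [apply_third hc]; exact haΓ) d hd (hds.trans ?_)
      intro z hz
      rcases Finset.mem_union.1 hz with hz | hz
      · exact Finset.mem_insert_of_mem (hsub hz)
      · rcases mem_three hc ha hz with rfl | rfl | rfl <;> simp [haΓ, h]
  by_cases hor : c a ∈ Δ ∨ c (c a) ∈ Δ
  · exact two Δ hΔ subset_rfl haΔ hor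
  obtain ⟨hxΔ, hyΔ⟩ := not_or.1 hor
  obtain ⟨b, hb⟩ : (Δ.erase a).Nonempty := by
    rw [← Finset.card_pos, Finset.card_erase_of_mem haΔ]; omega
  obtain ⟨w, hw⟩ : ((Δ.erase a).erase b).Nonempty := by
    rw [← Finset.card_pos, Finset.card_erase_of_mem hb, Finset.card_erase_of_mem haΔ]; omega
  simp only [Finset.mem_erase] at hb hw
  obtain ⟨g, hg, hgs, hgab, -, -⟩ := exists_threeCycle haΔ hb.2 hw.2.2 (Ne.symm hb.1) (Ne.symm hw.2.1) (Ne.symm hw.1)
  have hgH := hΔ g hg hgs
  have gfix : ∀ z, z ∉ Δ → g z = z := fun z hz => apply_of_fix hgs hz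
  have ginv : ∀ z, z ∉ Δ → g⁻¹ z = z := fun z hz => by rw [Perm.inv_eq_iff_eq, gfix z hz]
  set e := c * (g * c * g⁻¹) * c⁻¹ with he
  have he3 : IsThreeCycle e := isThreeCycle_conj (isThreeCycle_conj hc g) c
  have heH : e ∈ H := H.mul_mem (H.mul_mem hcH (H.mul_mem (H.mul_mem hgH hcH) (H.inv_mem hgH))) (H.inv_mem hcH)
  have hbc : c b = b := notMem_support.1 fun h => by
    rcases mem_three hc ha h with h' | h' | h'
    · exact hb.1 h'
    · exact hxΔ (h' ▸ hb.2)
    · exact hyΔ (h' ▸ hb.2)
  have k1 : e (c (c a)) = a := by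
    have h1 : c⁻¹ (c (c a)) = c a := by rw [Perm.inv_eq_iff_eq]
    simp only [he, Perm.mul_apply, h1, ginv _ hxΔ, gfix _ hyΔ, apply_third hc]
  have k2 : e a = b := by
    have h1 : c⁻¹ a = c (c a) := by rw [Perm.inv_eq_iff_eq, apply_third hc]
    simp only [he, Perm.mul_apply, h1, ginv _ hyΔ, apply_third hc, hgab, hbc]
  have hye : c (c a) ∈ e.support := by rw [mem_support, k1]; exact d2
  have := full_insert hΔ h3 he3 heH hye (by rw [k1]; exact haΔ) (by rw [k1, k2]; exact hb.2)
  exact two _ this (Finset.subset_insert _ _) (Finset.mem_insert_of_mem haΔ) (Or.inr (Finset.mem_insert_self _ _))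

theorem full_support {c : Perm α} (hc : IsThreeCycle c) (hcH : c ∈ H) : Full H c.support := by
  intro d hd hds
  have heq : d.support = c.support :=
    Finset.eq_of_subset_of_card_le hds (by rw [hc.card_support, hd.card_support])
  obtain ⟨a, ha⟩ : c.support.Nonempty := by rw [← Finset.card_pos, hc.card_support]; norm_num
  have had : a ∈ d.support := heq ▸ ha
  obtain ⟨e1, e2, e3⟩ := distinct_of_mem hd had
  rcases mem_three hc ha (hds (apply_mem_support.2 had)) with h | h | h
  · exact absurd h.symm e1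
  · rcases mem_three hc ha (hds (apply_mem_support.2 (apply_mem_support.2 had))) with h' | h' | h'
    · exact absurd h'.symm e2
    · exact absurd (h.trans h'.symm) e3
    · rwa [eq_of_apply_eq hc hd ha had h h']
  · have h3 := apply_third hc (a := a)
    have hci : c⁻¹ a = c (c a) := by rw [Perm.inv_eq_iff_eq, h3]
    rcases mem_three hc ha (hds (apply_mem_support.2 (apply_mem_support.2 had))) with h' | h' | h'
    · exact absurd h'.symm e2
    · rw [eq_of_apply_eq hc.inv hd (by rwa [support_inv]) had (by rw [hci, h])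
        (by rw [hci, h', eq_comm, Perm.inv_eq_iff_eq])]
      exact H.inv_mem hcH
    · exact absurd (h.trans h'.symm) e3

/-- A maximal full set around `c`. -/
theorem exists_block {c : Perm α} (hc : IsThreeCycle c) (hcH : c ∈ H) :
    ∃ Δ : Finset α, c.support ⊆ Δ ∧ 3 ≤ Δ.card ∧ Full H Δ ∧
      ∀ e : Perm α, IsThreeCycle e → e ∈ H → e.support ⊆ Δ ∨ Disjoint e.support Δ := by
  classical
  obtain ⟨Δ, hΔ, hmax⟩ := Finset.exists_max_image
    (Finset.univ.filter fun Δ : Finset α => c.support ⊆ Δ ∧ Full H Δ) Finset.card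
    ⟨c.support, by simp [full_support hc hcH]⟩
  simp only [Finset.mem_filter, Finset.mem_univ, true_and] at hΔ hmax
  have h3 : 3 ≤ Δ.card := hc.card_support ▸ Finset.card_le_card hΔ.1
  refine ⟨Δ, hΔ.1, h3, hΔ.2, fun e he heH => ?_⟩
  by_cases hd : Disjoint e.support Δ
  · exact Or.inr hd
  left
  have h := hmax _ ⟨hΔ.1.trans Finset.subset_union_left, full_union hΔ.2 h3 he heH hd⟩
  have := Finset.eq_of_subset_of_card_le Finset.subset_union_left h
  rw [this]
  exact Finset.subset_union_right

/-- The group generated by the 3-cycles supported in `Δ`. -/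
def altOn (Δ : Finset α) : Subgroup (Perm α) :=
  Subgroup.closure {c : Perm α | IsThreeCycle c ∧ c.support ⊆ Δ}

theorem altOn_eq_map (Δ : Finset α) :
    altOn Δ = (alternatingGroup Δ).map (Perm.ofSubtype : Perm Δ →* Perm α) := by
  rw [altOn, ← closure_three_cycles_eq_alternating, MonoidHom.map_closure]
  congr 1
  ext c
  constructor
  · rintro ⟨hc, hs⟩
    have hm : c ∈ (Perm.ofSubtype : Perm Δ →* Perm α).range := by
      rw [Perm.mem_range_ofSubtype_iff]; simpa using hs
    obtain ⟨d, rfl⟩ := hm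
    refine ⟨d, ?_, rfl⟩
    show d.cycleType = {3}
    rw [← cycleType_ofSubtype (g := d)]; exact hc
  · rintro ⟨d, hd, rfl⟩
    refine ⟨?_, ?_⟩
    · show (Perm.ofSubtype d).cycleType = {3}
      rw [cycleType_ofSubtype]; exact hd
    · intro z hz
      by_contra hn
      exact mem_support.1 hz (Perm.ofSubtype_apply_of_not_mem d hn)

/-- `altOn Δ` is an alternating group. -/
noncomputable def altOnEquiv (Δ : Finset α) : altOn Δ ≃* alternatingGroup (Fin Δ.card) :=
  (MulEquiv.subgroupCongr (altOn_eq_map Δ)).trans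
    (((alternatingGroup Δ).equivMapOfInjective _ Perm.ofSubtype_injective).symm.trans
      Δ.equivFin.altCongrHom)

/-- The alternating groups of degree at most 4 are solvable. -/
theorem isSolvable_alternatingGroup_of_le_four {β : Type*} [Fintype β] [DecidableEq β]
    (h : Fintype.card β ≤ 4) : Group.IsSolvable (alternatingGroup β) := by
  have h4 : Group.IsSolvable (alternatingGroup (Fin 4)) := by
    have k1 : ∀ a b : alternatingGroup (Fin 4),
        (a * b * a⁻¹ * b⁻¹) * (a * b * a⁻¹ * b⁻¹) = 1 := by decide +kernel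
    have k2 : ∀ a b : alternatingGroup (Fin 4), a * a = 1 → b * b = 1 → a * b = b * a := by decide +kernel
    refine ⟨⟨2, ?_⟩⟩
    rw [derivedSeries_succ, derivedSeries_one]
    have hle : commutator (alternatingGroup (Fin 4)) ≤
        Subgroup.closure {a : alternatingGroup (Fin 4) | a * a = 1} := by
      rw [commutator_eq_closure, Subgroup.closure_le]
      rintro _ ⟨a, b, rfl⟩
      exact Subgroup.subset_closure (k1 a b)
    rw [eq_bot_iff]
    refine (Subgroup.commutator_mono hle hle).trans ?_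
    rw [le_bot_iff, Subgroup.commutator_eq_bot_iff_le_centralizer]
    have := Subgroup.isMulCommutative_closure (G := alternatingGroup (Fin 4))
      (k := {a : alternatingGroup (Fin 4) | a * a = 1}) fun a ha b hb => k2 a b ha hb
    exact fun a ha => Subgroup.mem_centralizer_iff.2 fun b hb =>
      congrArg Subtype.val (this.is_comm.comm ⟨b, hb⟩ ⟨a, ha⟩)
  let e : β ↪ Fin 4 := (Fintype.equivFin β).toEmbedding.trans (Fin.castLEEmb h)
  let s : Finset (Fin 4) := Finset.univ.map e
  let f : β ≃ s := (Equiv.ofInjective e e.injective).trans (Equiv.subtypeEquivRight (by simp [s]))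
  have hinj : Function.Injective ((alternatingGroup.ofSubtype s).comp f.altCongrHom.toMonoidHom) :=
    alternatingGroup.ofSubtype_injective.comp f.altCongrHom.injective
  exact Group.isSolvable_of_isSolvable_injective hinj

/-- `altOn` of a block is subnormal in `H`. -/
theorem isSubnormal_altOn {Δ : Finset α} (hfull : Full H Δ)
    (hblock : ∀ e : Perm α, IsThreeCycle e → e ∈ H → e.support ⊆ Δ ∨ Disjoint e.support Δ) :
    ((altOn Δ).subgroupOf H).IsSubnormal := by
  set T : Subgroup (Perm α) := Subgroup.closure {c | IsThreeCycle c ∧ c ∈ H} with hT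
  have hTH : T ≤ H := (Subgroup.closure_le _).2 fun c hc => hc.2
  have hle : altOn Δ ≤ T :=
    Subgroup.closure_mono fun c hc => ⟨hc.1, hfull c hc.1 hc.2⟩
  have hTn : (T.subgroupOf H).Normal := by
    refine (Subgroup.normal_subgroupOf_iff_le_normalizer hTH).2 ?_
    intro h hh
    have key : ∀ g ∈ H, ∀ y ∈ T, g * y * g⁻¹ ∈ T := by
      intro g hg y hy
      induction hy using Subgroup.closure_induction with
      | mem c hc => exact Subgroup.subset_closure ⟨isThreeCycle_conj hc.1 g, H.mul_mem (H.mul_mem hg hc.2) (H.inv_mem hg)⟩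
      | one => simp
      | mul u v _ _ hu hv => have := T.mul_mem hu hv; simpa [mul_assoc] using this
      | inv u _ hu => have := T.inv_mem hu; simpa [mul_assoc] using this
    refine Subgroup.mem_normalizer_iff.2 fun y => ⟨key h hh y, fun hy => ?_⟩
    have := key h⁻¹ (H.inv_mem hh) _ hy
    simpa [mul_assoc] using this
  refine Subgroup.IsSubnormal.step _ (T.subgroupOf H) (Subgroup.comap_mono hle) hTn.isSubnormal ?_
  have hnorm : T ≤ Subgroup.normalizer (altOn Δ : Set (Perm α)) := by
    refine (Subgroup.closure_le _).2 fun c hc => ?_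
    rcases hblock c hc.1 hc.2 with h | h
    · exact Subgroup.le_normalizer (Subgroup.subset_closure ⟨hc.1, h⟩)
    · refine Subgroup.centralizer_le_normalizer _ ?_
      have hle' : altOn Δ ≤ Subgroup.centralizer ({c} : Set (Perm α)) := by
        refine (Subgroup.closure_le _).2 fun d hd => Subgroup.mem_centralizer_singleton_iff.2 ?_
        refine (Perm.Disjoint.commute ?_).eq
        rw [Perm.disjoint_iff_disjoint_support]
        exact (h.mono_right hd.2).symm
      exact Subgroup.mem_centralizer_iff.2 fun d hd => (Subgroup.mem_centralizer_singleton_iff.1 (hle' hd))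
  refine (Subgroup.normal_subgroupOf_iff_le_normalizer (Subgroup.comap_mono hle)).2 ?_
  intro t ht
  refine Subgroup.mem_normalizer_iff.2 fun y => ?_
  exact Subgroup.mem_normalizer_iff.1 (hnorm (show (t : Perm α) ∈ T from ht)) (y : Perm α)

end CfsgLib.AltBlocks
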